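import Cfsg.Prelude.Def_GeometricClasses
import Mathlib.LinearAlgebra.Eigenspace.Basic
import Mathlib.LinearAlgebra.Matrix.ToLin
import Mathlib.RingTheory.RootsOfUnity.Basic
import Mathlib.GroupTheory.PGroup
import Mathlib.GroupTheory.Commutator.Basic

/-!
Groups of matrices that are abelian modulo scalars and have trivial commutant: basic relations and eigenspaces.
-/

set_option autoImplicit false
set_option linter.unusedSectionVars false

namespace CfsgLib.ExtraEigen

open Matrix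
open scoped MatrixGroups

variable {F : Type*} [Field F] {n : ℕ}

/-- scalar matrices in `GL` -/
def sc : Fˣ →* GL (Fin n) F := Units.map (Matrix.scalar (Fin n) : F →+* Matrix (Fin n) (Fin n) F).toMonoidHom

theorem coe_sc (z : Fˣ) : ((sc z : GL (Fin n) F) : Matrix (Fin n) (Fin n) F) = (z : F) • 1 := by
  simp [sc, Matrix.smul_one_eq_diagonal]

theorem sc_mul_coe (z : Fˣ) (g : GL (Fin n) F) :
    ((sc z * g : GL (Fin n) F) : Matrix (Fin n) (Fin n) F) = (z : F) • (g : Matrix (Fin n) (Fin n) F) := by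
  rw [Units.val_mul, coe_sc, smul_mul, one_mul]

theorem sc_mem (z : Fˣ) : sc z ∈ Cfsg.Geo.scalars (Fin n) F := ⟨z, rfl⟩

theorem exists_sc {g : GL (Fin n) F} (h : g ∈ Cfsg.Geo.scalars (Fin n) F) : ∃ z, g = sc z := by
  obtain ⟨z, rfl⟩ := h
  exact ⟨z, rfl⟩

theorem sc_comm (z : Fˣ) (g : GL (Fin n) F) : sc z * g = g * sc z := by
  refine Units.ext ?_
  rw [Units.val_mul, Units.val_mul, coe_sc, smul_mul, one_mul, Matrix.mul_smul, mul_one]

theorem sc_inj (hn : n ≠ 0) : Function.Injective (sc : Fˣ → GL (Fin n) F) := by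
  intro a b h
  have h' := congrFun (congrFun (congrArg (fun x : GL (Fin n) F => (x : Matrix (Fin n) (Fin n) F)) h)
    ⟨0, Nat.pos_of_ne_zero hn⟩) ⟨0, Nat.pos_of_ne_zero hn⟩
  rw [coe_sc, coe_sc] at h'
  simpa [Units.ext_iff] using h'

/-- `K` is abelian modulo scalars with commutators of order dividing `r`, and only scalars commute with it. -/
structure IsBicharGroup (r : ℕ) (K : Subgroup (GL (Fin n) F)) : Prop where
  scal : Cfsg.Geo.scalars (Fin n) F ≤ K
  comm : ∀ x ∈ K, ∀ y ∈ K, ∃ z : Fˣ, z ^ r = 1 ∧ x * y = sc z * (y * x)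
  commutant : ∀ M : Matrix (Fin n) (Fin n) F,
    (∀ x ∈ K, M * (x : Matrix (Fin n) (Fin n) F) = (x : Matrix (Fin n) (Fin n) F) * M) →
    ∃ c : F, M = c • 1

/-- commutator -/
def br (a b : GL (Fin n) F) : GL (Fin n) F := a * b * a⁻¹ * b⁻¹

theorem br_eq_one {a b : GL (Fin n) F} : br a b = 1 ↔ a * b = b * a := by
  rw [br, mul_inv_eq_one, mul_inv_eq_iff_eq_mul]

namespace IsBicharGroup

variable {r : ℕ} {K : Subgroup (GL (Fin n) F)} (hK : IsBicharGroup r K)
include hK

theorem br_eq {x y : GL (Fin n) F} (hx : x ∈ K) (hy : y ∈ K) :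
    ∃ z : Fˣ, z ^ r = 1 ∧ br x y = sc z := by
  obtain ⟨z, hz, h⟩ := hK.comm x hx y hy
  exact ⟨z, hz, by rw [br, h]; group⟩

theorem br_central {x y : GL (Fin n) F} (hx : x ∈ K) (hy : y ∈ K) (a : GL (Fin n) F) :
    br x y * a = a * br x y := by
  obtain ⟨z, -, h⟩ := hK.br_eq hx hy
  rw [h, sc_comm]

theorem br_mul_left {a b c : GL (Fin n) F} (ha : a ∈ K) (hb : b ∈ K) (hc : c ∈ K) :
    br (a * b) c = br a c * br b c := by
  have h : br (a * b) c = a * br b c * a⁻¹ * br a c := by simp only [br]; group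
  rw [h, ← hK.br_central hb hc a, mul_inv_cancel_right, hK.br_central hb hc]

theorem br_mul_right {a b c : GL (Fin n) F} (ha : a ∈ K) (hb : b ∈ K) (hc : c ∈ K) :
    br a (b * c) = br a b * br a c := by
  have h : br a (b * c) = br a b * (b * br a c * b⁻¹) := by simp only [br]; group
  rw [h, ← hK.br_central ha hc b, mul_inv_cancel_right]

theorem br_swap (a b : GL (Fin n) F) : br b a = (br a b)⁻¹ := by simp only [br]; group

theorem br_conj {g a b : GL (Fin n) F} (ha : a ∈ K) (hb : b ∈ K) :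
    br (g * a * g⁻¹) (g * b * g⁻¹) = br a b := by
  have h : br (g * a * g⁻¹) (g * b * g⁻¹) = g * br a b * g⁻¹ := by simp only [br]; group
  rw [h, ← hK.br_central ha hb g, mul_inv_cancel_right]

theorem br_inv_left {a c : GL (Fin n) F} (ha : a ∈ K) (hc : c ∈ K) :
    br a⁻¹ c = (br a c)⁻¹ := by
  refine eq_inv_of_mul_eq_one_left ?_
  rw [← hK.br_mul_left (inv_mem ha) ha hc, inv_mul_cancel]
  simp [br]

theorem exists_sc_of_commute {x : GL (Fin n) F} (h : ∀ y ∈ K, br x y = 1) : ∃ z, x = sc z := by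
  obtain ⟨c, hc⟩ := hK.commutant (x : Matrix (Fin n) (Fin n) F) fun y hy => by
    rw [← Units.val_mul, br_eq_one.1 (h y hy), Units.val_mul]
  rcases eq_or_ne c 0 with rfl | h0
  · rw [zero_smul] at hc
    have : Subsingleton (Matrix (Fin n) (Fin n) F) := subsingleton_of_zero_eq_one (by
      rw [← x.mul_inv, hc, zero_mul])
    exact ⟨1, Units.ext (Subsingleton.elim _ _)⟩
  · exact ⟨Units.mk0 c h0, Units.ext (by rw [hc, coe_sc]; rfl)⟩

theorem pow_eq_sc {x : GL (Fin n) F} (hx : x ∈ K) : ∃ z, x ^ r = sc z := by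
  refine hK.exists_sc_of_commute fun y hy => ?_
  obtain ⟨z, hz, h⟩ := hK.br_eq hx hy
  have key : ∀ k : ℕ, br (x ^ k) y = sc (z ^ k) := by
    intro k
    induction k with
    | zero => simp [br]
    | succ k ih => rw [pow_succ, hK.br_mul_left (pow_mem hx k) hx hy, ih, h, ← map_mul, pow_succ]
  rw [key, hz, map_one]

/-- `[g, x ^ i]` is `[g, x] ^ i` up to a scalar. -/
theorem exists_br_pow {g x : GL (Fin n) F} (hx : x ∈ K) (hy : br g x ∈ K) (i : ℕ) :
    ∃ z, br g (x ^ i) = sc z * br g x ^ i := by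
  induction i with
  | zero => exact ⟨1, by simp [br]⟩
  | succ i ih =>
    obtain ⟨z, hz⟩ := ih
    obtain ⟨z', -, hz'⟩ := hK.br_eq (pow_mem hx i) hy
    refine ⟨z * z', ?_⟩
    have h : br g (x ^ (i + 1)) = br g (x ^ i) * (br (x ^ i) (br g x) * br g x) := by
      rw [pow_succ]; simp only [br]; group
    rw [h, hz, hz', map_mul, pow_succ]
    calc sc z * br g x ^ i * (sc z' * br g x) = sc z * (br g x ^ i * sc z') * br g x := by group
      _ = sc z * sc z' * (br g x ^ i * br g x) := by rw [← sc_comm]; group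

end IsBicharGroup

/-- the eigenspace -/
noncomputable def eig (g : GL (Fin n) F) (c : F) : Submodule F (Fin n → F) :=
  Module.End.eigenspace (Matrix.toLin' (g : Matrix (Fin n) (Fin n) F)) c

theorem mem_eig {g : GL (Fin n) F} {c : F} {v : Fin n → F} :
    v ∈ eig g c ↔ (g : Matrix (Fin n) (Fin n) F) *ᵥ v = c • v := by
  simp [eig, Module.End.mem_eigenspace_iff]

theorem eig_zero (g : GL (Fin n) F) : eig g 0 = ⊥ := by
  rw [Submodule.eq_bot_iff]
  intro v hv
  rw [mem_eig, zero_smul] at hv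
  have := congrArg (((g⁻¹ : GL (Fin n) F) : Matrix (Fin n) (Fin n) F) *ᵥ ·) hv
  simpa [mulVec_mulVec, ← Units.val_mul] using this

/-- `v ↦ x v` as a linear equivalence -/
def mulVecEquiv (x : GL (Fin n) F) : (Fin n → F) ≃ₗ[F] (Fin n → F) :=
  { Matrix.toLin' (x : Matrix (Fin n) (Fin n) F) with
    invFun := fun v => ((x⁻¹ : GL (Fin n) F) : Matrix (Fin n) (Fin n) F) *ᵥ v
    left_inv := fun v => by simp [mulVec_mulVec, ← Units.val_mul]
    right_inv := fun v => by simp [mulVec_mulVec, ← Units.val_mul] }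

theorem mulVec_mem_eig {h x : GL (Fin n) F} {z : Fˣ} (hx : h * x = sc z * (x * h)) {c : F}
    {v : Fin n → F} (hv : v ∈ eig h c) :
    (x : Matrix (Fin n) (Fin n) F) *ᵥ v ∈ eig h ((z : F) * c) := by
  rw [mem_eig] at hv ⊢
  rw [mulVec_mulVec, ← Units.val_mul, hx, sc_mul_coe, Units.val_mul, smul_mulVec, ← mulVec_mulVec, hv,
    mulVec_smul, smul_smul]

/-- An element moved by a scalar has small eigenspaces. -/
theorem mul_finrank_eig_le {h x : GL (Fin n) F} {z : Fˣ} {q : ℕ} (hq : orderOf z = q)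
    (hx : h * x = sc z * (x * h)) (c : F) : q * Module.finrank F (eig h c) ≤ n := by
  rcases eq_or_ne c 0 with rfl | hc
  · rw [eig_zero, finrank_bot, mul_zero]; exact Nat.zero_le _
  subst hq
  have hpow : ∀ i : ℕ, h * x ^ i = sc (z ^ i) * (x ^ i * h) := by
    intro i
    induction i with
    | zero => simp
    | succ i ih =>
      calc h * x ^ (i + 1) = h * x ^ i * x := by rw [pow_succ, mul_assoc]
        _ = sc (z ^ i) * x ^ i * (h * x) := by rw [ih]; group
        _ = sc (z ^ i) * (x ^ i * sc z) * (x * h) := by rw [hx]; group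
        _ = sc (z ^ i) * sc z * (x ^ i * x * h) := by rw [← sc_comm]; group
        _ = sc (z ^ (i + 1)) * (x ^ (i + 1) * h) := by rw [← map_mul, ← pow_succ, ← pow_succ]
  have hind : iSupIndep fun i : Fin (orderOf z) => eig h (((z ^ (i : ℕ) : Fˣ) : F) * c) :=
    (Module.End.eigenspaces_iSupIndep (Matrix.toLin' (h : Matrix (Fin n) (Fin n) F))).comp
      fun i j e => Fin.ext (pow_injOn_Iio_orderOf i.2 j.2
        (Units.ext (mul_right_cancel₀ hc e)))
  let L : (Fin (orderOf z) → eig h c) →ₗ[F] (Fin n → F) :=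
    ∑ i : Fin (orderOf z),
      Matrix.toLin' ((x ^ (i : ℕ) : GL (Fin n) F) : Matrix (Fin n) (Fin n) F) ∘ₗ
        (eig h c).subtype ∘ₗ LinearMap.proj i
  have hL : Function.Injective L := by
    rw [← LinearMap.ker_eq_bot, Submodule.eq_bot_iff]
    intro f hf
    funext i
    have h0 : ∑ i : Fin (orderOf z),
        ((x ^ (i : ℕ) : GL (Fin n) F) : Matrix (Fin n) (Fin n) F) *ᵥ (f i : Fin n → F) = 0 := by
      have hf' : L f = 0 := hf
      simpa only [L, LinearMap.sum_apply, LinearMap.comp_apply, Matrix.toLin'_apply, Submodule.subtype_apply,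
        LinearMap.proj_apply] using hf'
    have := (iSupIndep_iff_finsetSum_eq_zero_imp_eq_zero _).1 hind Finset.univ
      (fun i => ((x ^ (i : ℕ) : GL (Fin n) F) : Matrix (Fin n) (Fin n) F) *ᵥ (f i : Fin n → F))
      (fun i _ => mulVec_mem_eig (hpow i) (f i).2) h0 i (Finset.mem_univ i)
    exact Subtype.ext ((mulVecEquiv (x ^ (i : ℕ))).map_eq_zero_iff.1 this)
  have := LinearMap.finrank_le_finrank_of_injective hL
  simpa [Module.finrank_pi_fintype] using this

/-- The eigenspace meets its translate by `x` in fixed vectors of `[g, x]`. -/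
theorem br_mulVec_eq {g x : GL (Fin n) F} {c : F} (hc : c ≠ 0) {v : Fin n → F} (hv : v ∈ eig g c)
    (hxv : (x : Matrix (Fin n) (Fin n) F) *ᵥ v ∈ eig g c) :
    (br g x : Matrix (Fin n) (Fin n) F) *ᵥ ((x : Matrix (Fin n) (Fin n) F) *ᵥ v) =
      (x : Matrix (Fin n) (Fin n) F) *ᵥ v := by
  rw [mem_eig] at hv hxv
  have hv' : ((g⁻¹ : GL (Fin n) F) : Matrix (Fin n) (Fin n) F) *ᵥ v = c⁻¹ • v := by
    have := congrArg (fun w => c⁻¹ • (((g⁻¹ : GL (Fin n) F) : Matrix (Fin n) (Fin n) F) *ᵥ w)) hv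
    simpa [mulVec_mulVec, ← Units.val_mul, mulVec_smul, smul_smul, hc] using this.symm
  rw [mulVec_mulVec, ← Units.val_mul, show br g x * x = g * x * g⁻¹ by simp [br], Units.val_mul,
    Units.val_mul, ← mulVec_mulVec, ← mulVec_mulVec, hv', mulVec_smul, mulVec_smul, hxv, smul_smul,
    inv_mul_cancel₀ hc, one_smul]

theorem two_finrank_eig_le (g x : GL (Fin n) F) {c : F} (hc : c ≠ 0) (S : Submodule F (Fin n → F))
    (h : ∀ w, (br g x : Matrix (Fin n) (Fin n) F) *ᵥ w = w → w ∈ eig g c →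
      ((x⁻¹ : GL (Fin n) F) : Matrix (Fin n) (Fin n) F) *ᵥ w ∈ eig g c → w ∈ S) :
    2 * Module.finrank F (eig g c) ≤ n + Module.finrank F S := by
  let L := mulVecEquiv x
  have h1 := Submodule.finrank_sup_add_finrank_inf_eq
    ((eig g c).map (L : (Fin n → F) →ₗ[F] (Fin n → F))) (eig g c)
  rw [LinearEquiv.finrank_map_eq] at h1
  have h2 : (eig g c).map (L : (Fin n → F) →ₗ[F] (Fin n → F)) ⊓ eig g c ≤ S := by
    rintro _ ⟨⟨v, hv, rfl⟩, hx⟩
    refine h _ (br_mulVec_eq hc hv hx) hx ?_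
    show _ *ᵥ ((x : Matrix (Fin n) (Fin n) F) *ᵥ v) ∈ _
    rw [mulVec_mulVec, ← Units.val_mul, inv_mul_cancel, Units.val_one, one_mulVec]
    exact hv
  have h3 := Submodule.finrank_mono h2
  have h4 := Submodule.finrank_le ((eig g c).map (L : (Fin n → F) →ₗ[F] (Fin n → F)) ⊔ eig g c)
  rw [Module.finrank_fin_fun] at h4
  omega

end CfsgLib.ExtraEigen
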