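import Cfsg.Agent.Lib.ExtraEigen.Basic
import Mathlib.GroupTheory.Perm.Cycle.Basic
import Mathlib.LinearAlgebra.Matrix.Trace
import Mathlib.LinearAlgebra.FreeModule.Finite.Matrix

/-!
The classes of `K` modulo scalars form a basis of the matrix algebra; elements fixed by conjugation are
determined by one coefficient in each orbit.
-/

set_option autoImplicit false
set_option linter.unusedSectionVars false

namespace CfsgLib.ExtraEigen

open Matrix
open scoped MatrixGroups

variable {F : Type*} [Field F] {n r : ℕ}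

/-- `GL` modulo scalars -/
abbrev PMod (n : ℕ) (F : Type*) [Field F] := GL (Fin n) F ⧸ Cfsg.Geo.scalars (Fin n) F

/-- the classes of `K` -/
abbrev Cls (K : Subgroup (GL (Fin n) F)) :=
  ↥(K.map (QuotientGroup.mk' (Cfsg.Geo.scalars (Fin n) F)))

variable {K : Subgroup (GL (Fin n) F)}

/-- the class of a member -/
def cls (x : GL (Fin n) F) (hx : x ∈ K) : Cls K := ⟨_, Subgroup.mem_map_of_mem _ hx⟩

/-- a representative -/
noncomputable def rep (u : Cls K) : GL (Fin n) F := (Subgroup.mem_map.1 u.2).choose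

theorem rep_mem (u : Cls K) : rep u ∈ K := (Subgroup.mem_map.1 u.2).choose_spec.1

theorem cls_rep (u : Cls K) : cls (rep u) (rep_mem u) = u :=
  Subtype.ext (Subgroup.mem_map.1 u.2).choose_spec.2

theorem cls_eq_iff {x y : GL (Fin n) F} (hx : x ∈ K) (hy : y ∈ K) :
    cls x hx = cls y hy ↔ ∃ z, x = sc z * y := by
  rw [cls, cls, Subtype.mk.injEq, QuotientGroup.mk'_apply, QuotientGroup.mk'_apply, eq_comm,
    QuotientGroup.eq]
  constructor
  · intro h
    obtain ⟨z, hz⟩ := exists_sc h
    exact ⟨z, by rw [sc_comm, ← hz, mul_inv_cancel_left]⟩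
  · rintro ⟨z, rfl⟩
    rw [sc_comm, inv_mul_cancel_left]
    exact sc_mem z

theorem eq_sc_mul_rep {x : GL (Fin n) F} (hx : x ∈ K) : ∃ z, x = sc z * rep (cls x hx) :=
  (cls_eq_iff hx (rep_mem _)).1 (cls_rep _).symm

/-- the coefficient of a matrix at a class -/
noncomputable def coef (K : Subgroup (GL (Fin n) F)) :
    Matrix (Fin n) (Fin n) F →ₗ[F] (Cls K → F) :=
  LinearMap.pi fun u => Matrix.traceLinearMap (Fin n) F F ∘ₗ
    LinearMap.mulLeft F (((rep u)⁻¹ : GL (Fin n) F) : Matrix (Fin n) (Fin n) F)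

theorem coef_apply (M : Matrix (Fin n) (Fin n) F) (u : Cls K) :
    coef K M u = ((((rep u)⁻¹ : GL (Fin n) F) : Matrix (Fin n) (Fin n) F) * M).trace := rfl

theorem trace_conj (A : GL (Fin n) F) (M : Matrix (Fin n) (Fin n) F) :
    ((A : Matrix (Fin n) (Fin n) F) * M * ((A⁻¹ : GL (Fin n) F) : Matrix (Fin n) (Fin n) F)).trace =
      M.trace := by
  rw [Matrix.trace_mul_comm, ← Matrix.mul_assoc, ← Units.val_mul, inv_mul_cancel, Units.val_one,
    Matrix.one_mul]

theorem sc_mul_conj (z : Fˣ) (x : GL (Fin n) F) (M : Matrix (Fin n) (Fin n) F) :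
    ((sc z * x : GL (Fin n) F) : Matrix (Fin n) (Fin n) F) * M *
      (((sc z * x)⁻¹ : GL (Fin n) F) : Matrix (Fin n) (Fin n) F) =
    (x : Matrix (Fin n) (Fin n) F) * M * ((x⁻¹ : GL (Fin n) F) : Matrix (Fin n) (Fin n) F) := by
  rw [show (sc z * x)⁻¹ = sc z⁻¹ * x⁻¹ by rw [_root_.mul_inv_rev, ← map_inv, sc_comm],
    sc_mul_coe, sc_mul_coe, smul_mul, smul_mul, Matrix.mul_smul, smul_smul, ← Units.val_mul, mul_inv_cancel,
    Units.val_one, one_smul]

namespace IsBicharGroup

variable [Fintype F] (hK : IsBicharGroup r K) (hn : n ≠ 0) [Fintype (Cls K)] (hN : (Fintype.card (Cls K) : F) ≠ 0)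
include hK hn hN

/-- the average of a matrix over `K` is scalar -/
theorem exists_average (M : Matrix (Fin n) (Fin n) F) :
    ∃ c : F, ∑ u : Cls K, (rep u : Matrix (Fin n) (Fin n) F) * M *
        (((rep u)⁻¹ : GL (Fin n) F) : Matrix (Fin n) (Fin n) F) = c • 1 ∧
      (Fintype.card (Cls K) : F) * M.trace = c * (n : F) := by
  set S := ∑ u : Cls K, (rep u : Matrix (Fin n) (Fin n) F) * M *
        (((rep u)⁻¹ : GL (Fin n) F) : Matrix (Fin n) (Fin n) F) with hS
  obtain ⟨c, hc⟩ := hK.commutant S fun y hy => by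
    have h : (y : Matrix (Fin n) (Fin n) F) * S * ((y⁻¹ : GL (Fin n) F) : Matrix (Fin n) (Fin n) F) = S := by
      rw [hS, Matrix.mul_sum, Matrix.sum_mul]
      refine Fintype.sum_equiv (Equiv.mulLeft (cls y hy)) _ _ fun u => ?_
      have hm : y * rep u ∈ K := mul_mem hy (rep_mem u)
      have e : cls (y * rep u) hm = cls y hy * u := by
        conv_rhs => rw [← cls_rep u]
        exact Subtype.ext (map_mul _ _ _)
      obtain ⟨z, hz⟩ := eq_sc_mul_rep hm
      show _ = (rep (cls y hy * u) : Matrix (Fin n) (Fin n) F) * M *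
        (((rep (cls y hy * u))⁻¹ : GL (Fin n) F) : Matrix (Fin n) (Fin n) F)
      rw [← e]
      conv_rhs => rw [← sc_mul_conj z, ← hz, _root_.mul_inv_rev, Units.val_mul, Units.val_mul]
      simp only [Matrix.mul_assoc]
    conv_lhs => rw [← h]
    rw [Matrix.mul_assoc _ ((y⁻¹ : GL (Fin n) F) : Matrix (Fin n) (Fin n) F), ← Units.val_mul,
      inv_mul_cancel, Units.val_one, Matrix.mul_one]
  refine ⟨c, hc, ?_⟩
  have := congrArg Matrix.trace hc
  rw [hS, Matrix.trace_sum, Matrix.trace_smul, Matrix.trace_one, Fintype.card_fin, smul_eq_mul] at this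
  rw [← this, Finset.sum_congr rfl (fun u _ => trace_conj (rep u) M), Finset.sum_const, nsmul_eq_mul,
    Finset.card_univ]

theorem natCast_ne_zero : (n : F) ≠ 0 := by
  intro h0
  obtain ⟨c, -, hc⟩ := hK.exists_average hn hN
    (Matrix.single ⟨0, Nat.pos_of_ne_zero hn⟩ ⟨0, Nat.pos_of_ne_zero hn⟩ 1)
  rw [h0, mul_zero, Matrix.trace_single_eq_same, mul_one] at hc
  exact hN hc

/-- every matrix is the combination of the classes with its coefficients -/
theorem expand (M : Matrix (Fin n) (Fin n) F) :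
    ((Fintype.card (Cls K) : F) / (n : F)) • M =
      ∑ u : Cls K, coef K M u • (rep u : Matrix (Fin n) (Fin n) F) := by
  have hn' := hK.natCast_ne_zero hn hN
  ext a b
  simp only [Matrix.smul_apply, Matrix.sum_apply, smul_eq_mul, coef_apply, Matrix.trace,
    Matrix.diag_apply, Matrix.mul_apply, Finset.sum_mul]
  have key : ∀ k l, ∑ u : Cls K, (rep u : Matrix (Fin n) (Fin n) F) a b *
      (((rep u)⁻¹ : GL (Fin n) F) : Matrix (Fin n) (Fin n) F) l k =
      if k = a ∧ l = b then (Fintype.card (Cls K) : F) / n else 0 := by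
    intro k l
    obtain ⟨c, hc, hcn⟩ := hK.exists_average hn hN (Matrix.single b l 1)
    have h1 := congrFun (congrFun hc a) k
    simp only [Matrix.sum_apply, Matrix.mul_apply, Matrix.single_apply, mul_ite, mul_one, mul_zero,
      ite_mul, zero_mul, Finset.sum_ite_eq, Finset.sum_ite_eq', Finset.mem_univ, if_true, ite_and,
      Matrix.smul_apply, smul_eq_mul, Matrix.one_apply] at h1
    have htr : (Matrix.single b l (1 : F)).trace = if l = b then 1 else 0 := by
      rw [Matrix.trace, Finset.sum_eq_single b]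
      · simp [Matrix.single_apply, eq_comm]
      · intro i _ hi; simp [Matrix.single_apply, Ne.symm hi]
      · simp
    rw [htr] at hcn
    rw [h1]
    by_cases h : l = b
    · rw [if_pos h, mul_one] at hcn
      by_cases hk : k = a <;> simp [h, hk, hcn, Ne.symm, hn']
    · rw [if_neg h, mul_zero, eq_comm, mul_eq_zero] at hcn
      rw [hcn.resolve_right hn']
      simp [h]
  calc (Fintype.card (Cls K) : F) / (n : F) * M a b
      = ∑ k, ∑ l, M k l * (if k = a ∧ l = b then (Fintype.card (Cls K) : F) / n else 0) := by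
        simp [ite_and, mul_comm]
    _ = ∑ k, ∑ l, ∑ u : Cls K, M k l * ((rep u : Matrix (Fin n) (Fin n) F) a b *
          (((rep u)⁻¹ : GL (Fin n) F) : Matrix (Fin n) (Fin n) F) l k) := by
        simp only [← key, Finset.mul_sum]
    _ = ∑ u : Cls K, ∑ l, ∑ k, (((rep u)⁻¹ : GL (Fin n) F) : Matrix (Fin n) (Fin n) F) l k * M k l *
          (rep u : Matrix (Fin n) (Fin n) F) a b := by
        rw [Finset.sum_comm]
        conv_lhs => enter [2, l]; rw [Finset.sum_comm]
        rw [Finset.sum_comm]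
        refine Finset.sum_congr rfl fun u _ => Finset.sum_congr rfl fun l _ =>
          Finset.sum_congr rfl fun k _ => by ring

theorem coef_injective : Function.Injective (coef K) := by
  intro A B h
  have := (hK.expand hn hN A).trans ((congrArg
    (fun f : Cls K → F => ∑ u, f u • (rep u : Matrix (Fin n) (Fin n) F)) h).trans (hK.expand hn hN B).symm)
  exact smul_right_injective _ (div_ne_zero hN (hK.natCast_ne_zero hn hN)) this

open Classical in
theorem coef_rep (u v : Cls K) :
    coef K (rep v : Matrix (Fin n) (Fin n) F) u = if u = v then (n : F) else 0 := by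
  rw [coef_apply, ← Units.val_mul]
  by_cases h : u = v
  · rw [if_pos h, h, inv_mul_cancel, Units.val_one, Matrix.trace_one, Fintype.card_fin]
  rw [if_neg h]
  set w := (rep u)⁻¹ * rep v with hw
  have hwK : w ∈ K := mul_mem (inv_mem (rep_mem u)) (rep_mem v)
  obtain ⟨y, hy, hyw⟩ : ∃ y ∈ K, br w y ≠ 1 := by
    by_contra hall
    push Not at hall
    obtain ⟨z, hz⟩ := hK.exists_sc_of_commute hall
    refine h ?_
    rw [← cls_rep u, ← cls_rep v, cls_eq_iff]
    refine ⟨z⁻¹, ?_⟩
    rw [show rep v = rep u * w by rw [hw, mul_inv_cancel_left], hz, ← sc_comm, ← mul_assoc, ← map_mul,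
      inv_mul_cancel, map_one, one_mul]
  obtain ⟨z, -, hz⟩ := hK.br_eq hy hwK
  have hz1 : (z : F) ≠ 1 := fun e => hyw (by
    rw [br_eq_one]
    have : br y w = 1 := by rw [hz, (Units.ext e : z = 1), map_one]
    exact (br_eq_one.1 this).symm)
  have h1 := trace_conj y (w : Matrix (Fin n) (Fin n) F)
  rw [← Units.val_mul, ← Units.val_mul, show y * w * y⁻¹ = sc z * w by rw [← hz, br, inv_mul_cancel_right],
    sc_mul_coe, Matrix.trace_smul, smul_eq_mul] at h1
  refine (mul_eq_zero.1 (?_ : ((z : F) - 1) * (w : Matrix (Fin n) (Fin n) F).trace = 0)).resolve_left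
    (sub_ne_zero.2 hz1)
  rw [sub_mul, one_mul, h1, sub_self]

theorem card_eq : Fintype.card (Cls K) = n * n := by
  classical
  have h1 := LinearMap.finrank_le_finrank_of_injective (hK.coef_injective hn hN)
  rw [Module.finrank_matrix, Fintype.card_fin, Module.finrank_self, Module.finrank_pi] at h1
  have h2 : LinearMap.range (coef K) = ⊤ := by
    rw [eq_top_iff]
    intro f _
    refine ⟨∑ v, (f v / (n : F)) • (rep v : Matrix (Fin n) (Fin n) F), ?_⟩
    funext u
    simp [map_sum, hK.coef_rep hn hN, hK.natCast_ne_zero hn hN]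
  have h3 := LinearMap.finrank_range_le (coef K)
  rw [h2, finrank_top, Module.finrank_pi, Module.finrank_matrix, Fintype.card_fin,
    Module.finrank_self] at h3
  omega

end IsBicharGroup

end CfsgLib.ExtraEigen
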