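import Cfsg.Agent.Lib.ExtraEigen.Basic

/-!
An automorphism of odd prime order different from `r` moves some class to a non-commuting one.
-/

set_option autoImplicit false
set_option linter.unusedSectionVars false

namespace CfsgLib.ExtraEigen

open Matrix
open scoped MatrixGroups

variable {F : Type*} [Field F] {n r ϖ : ℕ} {K : Subgroup (GL (Fin n) F)}

/-- If all `[g, x]` commute with their conjugates by `g` then `g` is scalar. -/
theorem commute_all_imp_scalar (hK : IsBicharGroup r K) (hr : r.Prime) (hϖ : ϖ.Prime) (hodd : ϖ ≠ 2)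
    (hne : ϖ ≠ r) {g : GL (Fin n) F} (hg : ∀ x ∈ K, g * x * g⁻¹ ∈ K) (hgi : ∀ x ∈ K, g⁻¹ * x * g ∈ K)
    (hord : g ^ ϖ = 1) (hI : ∀ x ∈ K, ∀ z : Fˣ, br g x = sc z → z = 1)
    (hcomm : ∀ x ∈ K, br (br g x) (g * br g x * g⁻¹) = 1) :
    ∃ z, g = sc z := by
  have hb : ∀ x ∈ K, br g x ∈ K := fun x hx => mul_mem (hg x hx) (inv_mem hx)
  -- polarisation
  have hpol : ∀ x ∈ K, ∀ x' ∈ K,
      br (br g x) (g * br g x' * g⁻¹) = br (g * br g x * g⁻¹) (br g x') := by
    intro x hx x' hx'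
    set a := br g x
    set b := br g x'
    have ha : a ∈ K := hb x hx
    have hb' : b ∈ K := hb x' hx'
    obtain ⟨s, -, hs⟩ := hK.br_eq hx hb'
    have hab : br g (x * x') = sc s * (a * b) := by
      calc br g (x * x') = a * (br x b * b) := by simp only [a, b, br]; group
        _ = a * sc s * b := by rw [hs, mul_assoc]
        _ = _ := by rw [← sc_comm, mul_assoc]
    have h := hcomm _ (mul_mem hx hx')
    rw [hab] at h
    have hK' : sc s ∈ K := hK.scal (sc_mem s)
    have hz1 : ∀ w ∈ K, br (sc s) w = 1 := fun w _ => br_eq_one.2 (sc_comm s w)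
    have hz2 : ∀ w ∈ K, br w (sc s) = 1 := fun w _ => br_eq_one.2 (sc_comm s w).symm
    have e : g * (sc s * (a * b)) * g⁻¹ = sc s * ((g * a * g⁻¹) * (g * b * g⁻¹)) := by
      calc g * (sc s * (a * b)) * g⁻¹ = g * sc s * (a * b * g⁻¹) := by group
        _ = _ := by rw [← sc_comm]; group
    rw [e, hK.br_mul_left hK' (mul_mem ha hb') (mul_mem hK' (mul_mem (hg a ha) (hg b hb'))),
      hz1 _ (mul_mem hK' (mul_mem (hg a ha) (hg b hb'))), one_mul,
      hK.br_mul_right (mul_mem ha hb') hK' (mul_mem (hg a ha) (hg b hb')), hz2 _ (mul_mem ha hb'),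
      one_mul, hK.br_mul_left ha hb' (mul_mem (hg a ha) (hg b hb')),
      hK.br_mul_right ha (hg a ha) (hg b hb'), hK.br_mul_right hb' (hg a ha) (hg b hb'),
      hcomm x hx, hcomm x' hx', one_mul, mul_one] at h
    rw [eq_inv_of_mul_eq_one_left h, hK.br_swap (g * a * g⁻¹) b, inv_inv]
  -- `u = [g ^ 2, y]` commutes with every `[g, x]`
  have hu : ∀ x ∈ K, ∀ x' ∈ K,
      br (g * (g * br g x * g⁻¹) * g⁻¹ * (br g x)⁻¹) (br g x') = 1 := by
    intro x hx x' hx'
    have hx1 := hgi x' hx'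
    have e : br g x' = g * br g (g⁻¹ * x' * g) * g⁻¹ := by simp only [br]; group
    have ha : br g x ∈ K := hb x hx
    rw [e, hK.br_mul_left (hg _ (hg _ ha)) (inv_mem ha) (hg _ (hb _ hx1)),
      hK.br_inv_left ha (hg _ (hb _ hx1)), hpol x hx _ hx1,
      hK.br_conj (hg _ ha) (hb _ hx1), mul_inv_cancel]
  -- so `g` commutes with it
  have hfix : ∀ x ∈ K, br g (g * (g * br g x * g⁻¹) * g⁻¹ * (br g x)⁻¹) = 1 := by
    intro x hx
    set u := g * (g * br g x * g⁻¹) * g⁻¹ * (br g x)⁻¹ with hudef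
    have huK : u ∈ K := mul_mem (hg _ (hg _ (hb x hx))) (inv_mem (hb x hx))
    have hall : ∀ X ∈ K, br (br g u) X = 1 := by
      intro X hX
      set w := g⁻¹ * X * g
      have hw : w ∈ K := hgi X hX
      have eX : g * w * g⁻¹ = X := by simp only [w]; group
      have h1 : br u X = br u w := by
        rw [← eX, show g * w * g⁻¹ = br g w * w by simp [br], hK.br_mul_right huK (hb w hw) hw,
          hu x hx w hw, one_mul]
      have h2 : br (br g u) X * br u X = br u w := by
        rw [← hK.br_mul_left (hb u huK) huK hX, show br g u * u = g * u * g⁻¹ by simp [br], ← eX,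
          hK.br_conj huK hw]
      rw [h1] at h2
      exact mul_right_cancel (h2.trans (one_mul _).symm)
    obtain ⟨z, hz⟩ := hK.exists_sc_of_commute hall
    rw [hz, hI u huK z hz, map_one]
  have hfix' : ∀ x ∈ K, br g (br g x) = 1 := by
    intro x hx
    set y := br g x with hy
    set u := g * (g * y * g⁻¹) * g⁻¹ * y⁻¹ with hudef
    have hyK : y ∈ K := hb x hx
    have huK : u ∈ K := mul_mem (hg _ (hg _ hyK)) (inv_mem hyK)
    have hgu : g * u = u * g := br_eq_one.1 (hfix x hx)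
    -- iterate `g ^ 2`
    have hit : ∀ k : ℕ, g ^ (2 * k) * y = u ^ k * y * g ^ (2 * k) := by
      intro k
      induction k with
      | zero => simp
      | succ k ih =>
        calc g ^ (2 * (k + 1)) * y = g ^ 2 * (g ^ (2 * k) * y) := by
              rw [← mul_assoc, ← pow_add]; congr 2; omega
          _ = (g ^ 2 * u ^ k) * y * g ^ (2 * k) := by rw [ih]; group
          _ = u ^ k * (g ^ 2 * y) * g ^ (2 * k) := by
              rw [(Commute.pow_pow hgu 2 k).eq, mul_assoc (u ^ k)]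
          _ = u ^ k * (u * y * g ^ 2) * g ^ (2 * k) := by
              rw [show g ^ 2 * y = u * y * g ^ 2 by simp only [hudef, pow_two]; group]
          _ = u ^ (k + 1) * y * g ^ (2 * (k + 1)) := by
              rw [pow_succ, show 2 * (k + 1) = 2 + 2 * k by omega, pow_add]; group
    have h1 := hit ϖ
    rw [mul_comm 2 ϖ, pow_mul, hord, one_pow, one_mul, mul_one] at h1
    have hu1 : u ^ ϖ = 1 := mul_eq_right.1 h1.symm
    obtain ⟨s, hs⟩ := hK.pow_eq_sc huK
    obtain ⟨t, ht⟩ : ∃ t, u = sc t := by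
      refine ⟨s ^ Nat.gcdB ϖ r, ?_⟩
      have hcop : Nat.gcd ϖ r = 1 := (Nat.coprime_primes hϖ hr).2 hne
      have hb := Nat.gcd_eq_gcd_ab ϖ r
      rw [hcop] at hb
      calc u = u ^ ((1 : ℕ) : ℤ) := by simp
        _ = (u ^ ϖ) ^ Nat.gcdA ϖ r * (u ^ r) ^ Nat.gcdB ϖ r := by
            rw [hb, _root_.zpow_add, _root_.zpow_mul, _root_.zpow_mul, zpow_natCast, zpow_natCast]
        _ = sc (s ^ Nat.gcdB ϖ r) := by rw [hu1, _root_.one_zpow, one_mul, hs, map_zpow]
    obtain ⟨k, hk⟩ := (hϖ.odd_of_ne_two hodd).add_odd odd_one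
    have hstep := hit k
    rw [show 2 * k = ϖ + 1 by omega, pow_succ, hord, one_mul, ht, ← map_pow] at hstep
    have hbr : br g y = sc (t ^ k) := by
      rw [br, hstep]; group
    rw [hbr, hI y hyK _ hbr, map_one]
  refine hK.exists_sc_of_commute fun x hx => ?_
  set y := br g x with hy
  have hgy : Commute g y := br_eq_one.1 (hfix' x hx)
  have hit : ∀ k : ℕ, g ^ k * x = y ^ k * x * g ^ k := by
    intro k
    induction k with
    | zero => simp
    | succ k ih =>
      calc g ^ (k + 1) * x = g * (g ^ k * x) := by rw [pow_succ']; group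
        _ = (g * y ^ k) * x * g ^ k := by rw [ih]; group
        _ = y ^ k * (g * x) * g ^ k := by rw [(hgy.pow_right k).eq]; group
        _ = y ^ k * (y * x * g) * g ^ k := by rw [show g * x = y * x * g by simp [hy, br]]
        _ = y ^ (k + 1) * x * g ^ (k + 1) := by rw [pow_succ, pow_succ']; group
  have h1 := hit ϖ
  rw [hord, one_mul, mul_one] at h1
  have hy1 : y ^ ϖ = 1 := mul_eq_right.1 h1.symm
  obtain ⟨s, hs⟩ := hK.pow_eq_sc (hb x hx)
  have hcop : Nat.gcd ϖ r = 1 := (Nat.coprime_primes hϖ hr).2 hne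
  have hb' := Nat.gcd_eq_gcd_ab ϖ r
  rw [hcop] at hb'
  have hysc : y = sc (s ^ Nat.gcdB ϖ r) := by
    calc y = y ^ ((1 : ℕ) : ℤ) := by simp
      _ = (y ^ ϖ) ^ Nat.gcdA ϖ r * (y ^ r) ^ Nat.gcdB ϖ r := by
          rw [hb', _root_.zpow_add, _root_.zpow_mul, _root_.zpow_mul, zpow_natCast, zpow_natCast]
      _ = sc (s ^ Nat.gcdB ϖ r) := by rw [hy1, _root_.one_zpow, one_mul, hs, map_zpow]
  rw [hysc, hI x hx _ hysc, map_one]

end CfsgLib.ExtraEigen
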