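import Cfsg.Agent.Lib.ExtraEigen.Classes
import Mathlib.RingTheory.RootsOfUnity.PrimitiveRoots
import Mathlib.Algebra.Field.GeomSum

/-!
An element of prime order `r ≥ 5` equal to the prime of the classes has eigenspaces of at most half the dimension.
-/

set_option autoImplicit false
set_option linter.unusedSectionVars false

namespace CfsgLib.ExtraEigen

open Matrix
open scoped MatrixGroups

variable {F : Type*} [Field F] [Fintype F] {n r : ℕ} {K : Subgroup (GL (Fin n) F)}

/-- conjugation by `g` on the classes -/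
noncomputable def clsConj (g : GL (Fin n) F) (hg : ∀ x ∈ K, g * x * g⁻¹ ∈ K)
    (hgi : ∀ x ∈ K, g⁻¹ * x * g ∈ K) : Equiv.Perm (Cls K) where
  toFun u := cls (g * rep u * g⁻¹) (hg _ (rep_mem u))
  invFun u := cls (g⁻¹ * rep u * g) (hgi _ (rep_mem u))
  left_inv u := by
    refine Eq.trans ?_ (cls_rep u)
    obtain ⟨z, hz⟩ := eq_sc_mul_rep (hg _ (rep_mem u))
    refine (cls_eq_iff _ _).2 ⟨z⁻¹, ?_⟩
    calc g⁻¹ * rep (cls (g * rep u * g⁻¹) _) * g
        = g⁻¹ * (sc z⁻¹ * (g * rep u * g⁻¹)) * g := by
          conv_rhs => rw [hz, ← mul_assoc (sc z⁻¹), ← map_mul, inv_mul_cancel, map_one, one_mul]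
      _ = sc z⁻¹ * rep u := by rw [← mul_assoc g⁻¹, ← sc_comm]; group
  right_inv u := by
    refine Eq.trans ?_ (cls_rep u)
    obtain ⟨z, hz⟩ := eq_sc_mul_rep (hgi _ (rep_mem u))
    refine (cls_eq_iff _ _).2 ⟨z⁻¹, ?_⟩
    calc g * rep (cls (g⁻¹ * rep u * g) _) * g⁻¹
        = g * (sc z⁻¹ * (g⁻¹ * rep u * g)) * g⁻¹ := by
          conv_rhs => rw [hz, ← mul_assoc (sc z⁻¹), ← map_mul, inv_mul_cancel, map_one, one_mul]
      _ = sc z⁻¹ * rep u := by rw [← mul_assoc g, ← sc_comm]; group

theorem clsConj_cls {g : GL (Fin n) F} (hg : ∀ x ∈ K, g * x * g⁻¹ ∈ K)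
    (hgi : ∀ x ∈ K, g⁻¹ * x * g ∈ K) {x : GL (Fin n) F} (hx : x ∈ K) :
    clsConj g hg hgi (cls x hx) = cls (g * x * g⁻¹) (hg x hx) := by
  obtain ⟨z, hz⟩ := eq_sc_mul_rep hx
  show cls (g * rep (cls x hx) * g⁻¹) (hg _ (rep_mem _)) = _
  refine ((cls_eq_iff _ _).2 ⟨z, ?_⟩).symm
  conv_lhs => rw [hz, ← mul_assoc g, ← sc_comm]
  group

theorem clsConj_pow {g : GL (Fin n) F} (hg : ∀ x ∈ K, g * x * g⁻¹ ∈ K)
    (hgi : ∀ x ∈ K, g⁻¹ * x * g ∈ K) (k : ℕ) (u : Cls K) :
    ∃ h : g ^ k * rep u * (g ^ k)⁻¹ ∈ K,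
      (clsConj g hg hgi ^ k) u = cls (g ^ k * rep u * (g ^ k)⁻¹) h := by
  induction k with
  | zero => exact ⟨by simp [rep_mem], by simp [cls_rep]⟩
  | succ k ih =>
    obtain ⟨h, hk⟩ := ih
    have e : g * (g ^ k * rep u * (g ^ k)⁻¹) * g⁻¹ = g ^ (k + 1) * rep u * (g ^ (k + 1))⁻¹ := by
      rw [pow_succ']; group
    refine ⟨e ▸ hg _ h, ?_⟩
    rw [pow_succ', Equiv.Perm.mul_apply, hk, clsConj_cls]
    congr 1

variable (hK : IsBicharGroup r K) (hr : r.Prime)
include hK hr

theorem cls_pow (u : Cls K) : u ^ r = 1 := by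
  obtain ⟨z, hz⟩ := hK.pow_eq_sc (rep_mem u)
  refine Subtype.ext ?_
  rw [← cls_rep u]
  show (QuotientGroup.mk' _ (rep u)) ^ r = 1
  rw [← map_pow, hz, QuotientGroup.mk'_apply, QuotientGroup.eq_one_iff]
  exact sc_mem z

theorem card_subgroup_cls (H : Subgroup (Cls K)) : ∃ a, Nat.card H = r ^ a := by
  haveI := Fact.mk hr
  exact IsPGroup.iff_card.1 fun x => ⟨1, by
    rw [pow_one]; exact Subtype.ext (cls_pow hK hr (x : Cls K))⟩

set_option maxHeartbeats 1600000 in
/-- The eigenspaces of an automorphism of prime order `r ≥ 5`. -/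
theorem two_finrank_eig_le_of_prime (hn : n ≠ 0) (hr5 : 5 ≤ r) (hr0 : (r : F) ≠ 0)
    (hexp : ∀ y ∈ K, ∃ s : Fˣ, (sc s * y) ^ r = 1) {g : GL (Fin n) F}
    (hg : ∀ x ∈ K, g * x * g⁻¹ ∈ K) (hgi : ∀ x ∈ K, g⁻¹ * x * g ∈ K) (hord : g ^ r = 1)
    (hns : ∀ z, g ≠ sc z) (hI : ∀ x ∈ K, ∀ z : Fˣ, br g x = sc z → z = 1) {c : F} (hc : c ≠ 0) :
    2 * Module.finrank F (eig g c) ≤ n := by
  classical
  haveI := Fact.mk hr
  haveI : Fintype (Cls K) := Fintype.ofFinite _
  obtain ⟨a, ha⟩ := card_subgroup_cls hK hr (⊤ : Subgroup (Cls K))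
  rw [Subgroup.card_top, Nat.card_eq_fintype_card] at ha
  have hN : (Fintype.card (Cls K) : F) ≠ 0 := by rw [ha]; push_cast; exact pow_ne_zero _ hr0
  have hN2 := hK.card_eq hn hN
  let γ := clsConj g hg hgi
  have hγr : γ ^ r = 1 := by
    ext u
    obtain ⟨h, hu⟩ := clsConj_pow hg hgi r u
    show ((γ ^ r) u).1 = _
    rw [hu, Equiv.Perm.one_apply, ← congrArg Subtype.val (cls_rep u)]
    simp [cls, hord]
  have hfix : ∀ {x : GL (Fin n) F} (hx : x ∈ K), γ (cls x hx) = cls x hx ↔ br g x = 1 := by
    intro x hx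
    rw [clsConj_cls, cls_eq_iff, br]
    constructor
    · rintro ⟨z, hz⟩
      have h : br g x = sc z := by rw [br, hz, mul_inv_cancel_right]
      rw [← br, h, hI x hx z h, map_one]
    · intro h
      exact ⟨1, by rw [map_one, one_mul]; exact mul_inv_eq_one.1 h⟩
  let Φ : Subgroup (Cls K) :=
    { carrier := {u | γ u = u}
      one_mem' := by
        show γ 1 = 1
        have : (1 : Cls K) = cls 1 (one_mem K) := Subtype.ext (map_one _).symm
        rw [this, hfix]
        simp [br]
      mul_mem' := by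
        intro u v hu hv
        have e : u * v = cls (rep u * rep v) (mul_mem (rep_mem u) (rep_mem v)) := by
          conv_lhs => rw [← cls_rep u, ← cls_rep v]
          exact Subtype.ext (map_mul _ _ _).symm
        show γ (u * v) = u * v
        rw [Set.mem_setOf_eq, ← cls_rep u, hfix, br_eq_one] at hu
        rw [Set.mem_setOf_eq, ← cls_rep v, hfix, br_eq_one] at hv
        rw [e, hfix, br_eq_one, ← mul_assoc, hu, mul_assoc, hv, mul_assoc]
      inv_mem' := by
        intro u hu
        have e : u⁻¹ = cls (rep u)⁻¹ (inv_mem (rep_mem u)) := by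
          conv_lhs => rw [← cls_rep u]
          exact Subtype.ext (map_inv _ _).symm
        show γ u⁻¹ = u⁻¹
        rw [Set.mem_setOf_eq, ← cls_rep u, hfix, br_eq_one] at hu
        rw [e, hfix, br_eq_one]
        exact (Commute.inv_right hu).eq }
  have hmemΦ : ∀ u, u ∈ Φ ↔ γ u = u := fun u => Iff.rfl
  obtain ⟨b, hb⟩ := card_subgroup_cls hK hr Φ
  -- some class moves
  obtain ⟨x, hx, hxg⟩ : ∃ x ∈ K, br g x ≠ 1 := by
    by_contra hall
    push Not at hall
    obtain ⟨z, hz⟩ := hK.exists_sc_of_commute hall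
    exact hns z hz
  have hxΦ : cls x hx ∉ Φ := fun h => hxg ((hfix hx).1 ((hmemΦ _).1 h))
  have hba : b < a := by
    have hlt : Nat.card Φ < Fintype.card (Cls K) := by
      rw [Nat.card_eq_fintype_card]
      exact Fintype.card_lt_of_injective_of_notMem Subtype.val Subtype.val_injective
        (b := cls x hx) (by rintro ⟨⟨u, hu⟩, rfl⟩; exact hxΦ hu)
    rw [hb, ha] at hlt
    exact (Nat.pow_lt_pow_iff_right hr.one_lt).1 hlt
  set W := eig g c with hW
  rcases Nat.lt_or_ge (b + 1) a with hab | hab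
  · -- count orbits
    let S := Equiv.Perm.SameCycle.setoid γ
    let T : Finset (Cls K) := Finset.univ.filter fun u => (Quotient.mk S u).out = u
    let A : Finset (Cls K) := Finset.univ.filter fun u => γ u ≠ u
    have hper : ∀ u ∈ A, Function.minimalPeriod γ u = r := by
      intro u hu
      refine Function.minimalPeriod_eq_prime (p := r) ?_ (Finset.mem_filter.1 hu).2
      show (⇑γ)^[r] u = u
      rw [← Equiv.Perm.coe_pow, hγr, Equiv.Perm.one_apply]
    have hcount : r * (T ∩ A).card ≤ A.card := by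
      rw [← Finset.card_range r, ← Finset.card_product]
      refine Finset.card_le_card_of_injOn (fun p => (⇑γ)^[p.1] p.2) ?_ ?_
      · rintro ⟨i, u⟩ hp
        simp only [Finset.coe_product, Set.mem_prod, Finset.mem_coe, Finset.mem_inter] at hp
        refine Finset.mem_coe.2 (Finset.mem_filter.2 ⟨Finset.mem_univ _, fun h => ?_⟩)
        refine (Finset.mem_filter.1 hp.2.2).2 (γ.injective.iterate i ?_)
        show (⇑γ)^[i] (γ u) = (⇑γ)^[i] u
        rw [← Function.iterate_succ_apply, Function.iterate_succ_apply']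
        exact h
      · rintro ⟨i, u⟩ hp ⟨j, v⟩ hq he
        simp only [Finset.coe_product, Set.mem_prod, Finset.mem_coe, Finset.mem_inter,
          Finset.mem_range] at hp hq
        have he' : (⇑γ)^[i] u = (⇑γ)^[j] v := he
        have huv : u = v := by
          rw [← (Finset.mem_filter.1 hp.2.1).2, ← (Finset.mem_filter.1 hq.2.1).2]
          congr 1
          refine Quotient.sound ?_
          refine Equiv.Perm.SameCycle.trans ⟨i, ?_⟩ (Equiv.Perm.SameCycle.symm ⟨j, rfl⟩)
          rw [zpow_natCast, zpow_natCast, Equiv.Perm.coe_pow, Equiv.Perm.coe_pow, he']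
        subst huv
        refine Prod.ext ?_ rfl
        exact Function.iterate_injOn_Iio_minimalPeriod (by rw [hper u hp.2.2]; exact hp.1)
          (by rw [hper u hp.2.2]; exact hq.1) he'
    have hAcard : A.card + Nat.card Φ = Fintype.card (Cls K) := by
      have e : Nat.card Φ = (Finset.univ.filter fun u => γ u = u).card := by
        rw [← Fintype.card_subtype, ← Nat.card_eq_fintype_card]
        exact Nat.card_congr (Equiv.subtypeEquivRight hmemΦ)
      rw [e, add_comm]
      exact Finset.card_filter_add_card_filter_not _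
    have hTcard : T.card ≤ (T ∩ A).card + Nat.card Φ := by
      have hsd : T \ A ⊆ Finset.univ.filter fun u => γ u = u := fun u hu => by
        simpa [A] using (Finset.mem_sdiff.1 hu).2
      have e : Nat.card Φ = (Finset.univ.filter fun u => γ u = u).card := by
        rw [← Fintype.card_subtype, ← Nat.card_eq_fintype_card]
        exact Nat.card_congr (Equiv.subtypeEquivRight hmemΦ)
      have := Finset.card_le_card hsd
      rw [← e] at this
      have h2 := Finset.card_sdiff_add_card_inter T A
      omega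
    -- the maps into `W` killing the image of `g - c`
    let U := LinearMap.range (Matrix.toLin' (g : Matrix (Fin n) (Fin n) F) - c • LinearMap.id)
    let L₁ : (((Fin n → F) ⧸ U) →ₗ[F] W) →ₗ[F] Matrix (Fin n) (Fin n) F :=
      LinearMap.toMatrix'.toLinearMap ∘ₗ
        LinearMap.llcomp F (Fin n → F) W (Fin n → F) W.subtype ∘ₗ LinearMap.lcomp F W U.mkQ
    have hL₁ : ∀ f v, L₁ f *ᵥ v = (f (U.mkQ v) : Fin n → F) := fun f v => by
      rw [← Matrix.toLin'_apply]
      simp [L₁]
    let L : (((Fin n → F) ⧸ U) →ₗ[F] W) →ₗ[F] (T → F) :=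
      LinearMap.funLeft F F Subtype.val ∘ₗ coef K ∘ₗ L₁
    have hLinj : Function.Injective L := by
      rw [injective_iff_map_eq_zero]
      intro f hf
      have hgM : (g : Matrix (Fin n) (Fin n) F) * L₁ f = L₁ f * (g : Matrix (Fin n) (Fin n) F) := by
        refine Matrix.ext_of_mulVec_single fun i => ?_
        rw [← mulVec_mulVec, ← mulVec_mulVec, hL₁, hL₁, mem_eig.1 (f (U.mkQ (Pi.single i 1))).2]
        have : U.mkQ ((g : Matrix (Fin n) (Fin n) F) *ᵥ Pi.single i 1) = c • U.mkQ (Pi.single i 1) := by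
          rw [← map_smul, Submodule.mkQ_apply, Submodule.mkQ_apply, Submodule.Quotient.eq]
          exact ⟨Pi.single i 1, by simp⟩
        rw [this, map_smul, Submodule.coe_smul]
      have hstep : ∀ u, coef K (L₁ f) u = 0 → coef K (L₁ f) (γ u) = 0 := by
        intro u hu
        obtain ⟨z, hz⟩ := eq_sc_mul_rep (hg _ (rep_mem u))
        have e : (rep (γ u))⁻¹ = sc z * (g * (rep u)⁻¹ * g⁻¹) := by
          show (rep (cls (g * rep u * g⁻¹) (hg _ (rep_mem u))))⁻¹ = _
          rw [inv_eq_iff_eq_inv, show g * (rep u)⁻¹ * g⁻¹ = (g * rep u * g⁻¹)⁻¹ by group,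
            _root_.mul_inv_rev, inv_inv, ← map_inv, ← sc_comm]
          conv_rhs => rw [hz, ← mul_assoc, ← map_mul, inv_mul_cancel, map_one, one_mul]
        rw [coef_apply, e, sc_mul_coe, smul_mul, Matrix.trace_smul, Units.val_mul, Units.val_mul]
        have hcm : ((g⁻¹ : GL (Fin n) F) : Matrix (Fin n) (Fin n) F) * L₁ f =
            L₁ f * ((g⁻¹ : GL (Fin n) F) : Matrix (Fin n) (Fin n) F) :=
          (Commute.units_inv_left (u := g) hgM).eq
        rw [Matrix.mul_assoc _ ((g⁻¹ : GL (Fin n) F) : Matrix (Fin n) (Fin n) F), hcm,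
          ← Matrix.mul_assoc, Matrix.mul_assoc (g : Matrix (Fin n) (Fin n) F), trace_conj,
          ← coef_apply, hu, smul_zero]
      have hall : coef K (L₁ f) = 0 := by
        funext u
        have ht : (Quotient.mk S u).out ∈ T := Finset.mem_filter.2 ⟨Finset.mem_univ _, by
          rw [Quotient.out_eq]⟩
        obtain ⟨k, hk⟩ := (show γ.SameCycle (Quotient.mk S u).out u from
          Quotient.mk_out (s := S) u).exists_nat_pow_eq
        rw [← hk]
        clear hk
        induction k with
        | zero => exact congrFun hf ⟨_, ht⟩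
        | succ k ih => rw [pow_succ', Equiv.Perm.mul_apply]; exact hstep _ ih
      have h0 : L₁ f = 0 := hK.coef_injective hn hN (by rw [hall, map_zero])
      refine LinearMap.ext fun q => ?_
      obtain ⟨v, rfl⟩ := U.mkQ_surjective q
      exact Subtype.ext (by rw [← hL₁, h0]; simp)
    have hdim := LinearMap.finrank_le_finrank_of_injective hLinj
    rw [Module.finrank_linearMap, Module.finrank_pi, Fintype.card_coe] at hdim
    have hq : Module.finrank F ((Fin n → F) ⧸ U) = Module.finrank F W := by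
      have h1 := LinearMap.finrank_range_add_finrank_ker
        (Matrix.toLin' (g : Matrix (Fin n) (Fin n) F) - c • LinearMap.id)
      have h2 := Submodule.finrank_quotient_add_finrank U
      have h3 : LinearMap.ker (Matrix.toLin' (g : Matrix (Fin n) (Fin n) F) - c • LinearMap.id) = W := by
        ext v
        simp [hW, mem_eig, sub_eq_zero]
      rw [h3] at h1
      change _ + Module.finrank F U = _ at h2
      change Module.finrank F U + _ = _ at h1
      omega
    rw [hq] at hdim
    set w := Module.finrank F W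
    set f := Nat.card Φ
    have hf : r * r * f ≤ Fintype.card (Cls K) := by
      rw [hb, ha, ← sq, ← pow_add]
      exact Nat.pow_le_pow_right hr.pos (by omega)
    -- conclude
    by_contra hlt
    have hw : n * n < 4 * (w * w) := by nlinarith
    rw [hN2] at hAcard hf
    have h1 : r * (w * w) ≤ n * n + r * f := by
      calc r * (w * w) ≤ r * T.card := Nat.mul_le_mul_left r hdim
        _ ≤ r * ((T ∩ A).card + f) := Nat.mul_le_mul_left r hTcard
        _ ≤ n * n + r * f := by rw [mul_add]; omega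
    have h2 : r * (r * (w * w)) ≤ n * n * (r + 1) := by nlinarith [Nat.mul_le_mul_left r h1]
    have h3 : 4 * (r + 1) ≤ r * r := by nlinarith
    have h4 : n * n * (r + 1) < 4 * (w * w) * (r + 1) := Nat.mul_lt_mul_of_pos_right hw (by omega)
    have h5 : 4 * (r + 1) * (w * w) ≤ r * r * (w * w) := Nat.mul_le_mul_right _ h3
    nlinarith
  · -- the fixed classes form the perpendicular of `[g, x]`
    have hab' : a = b + 1 := by omega
    have hbK : ∀ z ∈ K, br g z ∈ K := fun z hz => mul_mem (hg z hz) (inv_mem hz)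
    set y := br g x with hy
    have hyK : y ∈ K := hbK x hx
    let Y : Subgroup (Cls K) :=
      { carrier := {u | br (rep u) y = 1}
        one_mem' := by
          show br (rep 1) y = 1
          obtain ⟨z, hz⟩ := (cls_eq_iff (K := K) (rep_mem 1) (one_mem K)).1
            ((cls_rep 1).trans (Subtype.ext (map_one _).symm))
          rw [hz, mul_one, br_eq_one, sc_comm]
        mul_mem' := by
          intro u v hu hv
          obtain ⟨z, hz⟩ := (cls_eq_iff (K := K) (rep_mem (u * v)) (mul_mem (rep_mem u) (rep_mem v))).1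
            ((cls_rep _).trans (by
              conv_lhs => rw [← cls_rep u, ← cls_rep v]
              exact Subtype.ext (map_mul _ _ _).symm))
          show br (rep (u * v)) y = 1
          rw [hz, hK.br_mul_left (hK.scal (sc_mem z)) (mul_mem (rep_mem u) (rep_mem v)) hyK,
            hK.br_mul_left (rep_mem u) (rep_mem v) hyK, hu, hv, mul_one, mul_one, br_eq_one, sc_comm]
        inv_mem' := by
          intro u hu
          obtain ⟨z, hz⟩ := (cls_eq_iff (K := K) (rep_mem u⁻¹) (inv_mem (rep_mem u))).1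
            ((cls_rep _).trans (by
              conv_lhs => rw [← cls_rep u]
              exact Subtype.ext (map_inv _ _).symm))
          show br (rep u⁻¹) y = 1
          rw [hz, hK.br_mul_left (hK.scal (sc_mem z)) (inv_mem (rep_mem u)) hyK,
            hK.br_inv_left (rep_mem u) hyK, hu, inv_one, mul_one, br_eq_one, sc_comm] }
    have hmemY : ∀ u, u ∈ Y ↔ br (rep u) y = 1 := fun u => Iff.rfl
    have hperp : ∀ z ∈ K, br g z = 1 → br z y = 1 := by
      intro z hz hgz
      have h1 := hK.br_conj (g := g) hz hx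
      rw [show g * z * g⁻¹ = z from mul_inv_eq_iff_eq_mul.2 (br_eq_one.1 hgz),
        show g * x * g⁻¹ = y * x by simp [hy, br], hK.br_mul_right hz hyK hx] at h1
      exact mul_eq_right.1 h1
    have hΦY : Φ ≤ Y := fun u hu => (hmemY u).2 (hperp _ (rep_mem u) (by
      rw [hmemΦ, ← cls_rep u, hfix] at hu
      exact hu))
    have hYΦ : Φ = Y := by
      obtain ⟨e, he⟩ := card_subgroup_cls hK hr Y
      refine Subgroup.eq_of_le_of_card_ge hΦY ?_
      rw [hb, he]
      refine Nat.pow_le_pow_right hr.pos ?_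
      have hne : Y ≠ ⊤ := fun htop => by
        refine hxg ?_
        obtain ⟨z, hz⟩ := hK.exists_sc_of_commute (x := y) fun w hw => by
          have hw' : cls w hw ∈ Y := htop ▸ trivial
          obtain ⟨t, ht⟩ := eq_sc_mul_rep hw
          rw [ht, hK.br_mul_right hyK (hK.scal (sc_mem t)) (rep_mem _), br_eq_one.2 (sc_comm t y).symm,
            one_mul, hK.br_swap, (hmemY _).1 hw', inv_one]
        rw [hz, hI x hx z hz, map_one]
      by_contra hlt
      refine hne (Subgroup.eq_top_of_le_card Y ?_)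
      rw [he, Nat.card_eq_fintype_card, ha]
      exact Nat.pow_le_pow_right hr.pos (by omega)
    have hcomm_g : ∀ z ∈ K, br z y = 1 → br g z = 1 := by
      intro z hz h
      have hzY : cls z hz ∈ Y := by
        obtain ⟨t, ht⟩ := eq_sc_mul_rep hz
        rw [ht, hK.br_mul_left (hK.scal (sc_mem t)) (rep_mem _) hyK, br_eq_one.2 (sc_comm t y),
          one_mul] at h
        exact (hmemY _).2 h
      rw [← hYΦ, hmemΦ, hfix] at hzY
      exact hzY
    -- everything commuting with `y` commutes with `g`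
    have hcentral : ∀ M : Matrix (Fin n) (Fin n) F,
        (y : Matrix (Fin n) (Fin n) F) * M = M * (y : Matrix (Fin n) (Fin n) F) →
        (g : Matrix (Fin n) (Fin n) F) * M = M * (g : Matrix (Fin n) (Fin n) F) := by
      intro M hM
      have hterm : ∀ u, (g : Matrix (Fin n) (Fin n) F) * (coef K M u • (rep u : Matrix (Fin n) (Fin n) F)) =
          (coef K M u • (rep u : Matrix (Fin n) (Fin n) F)) * (g : Matrix (Fin n) (Fin n) F) := by
        intro u
        by_cases h : br (rep u) y = 1
        · rw [mul_smul_comm, smul_mul_assoc, ← Units.val_mul, ← Units.val_mul,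
            br_eq_one.1 (hcomm_g _ (rep_mem u) h)]
        obtain ⟨z, -, hz⟩ := hK.br_eq hyK (inv_mem (rep_mem u))
        have hz1 : (z : F) ≠ 1 := fun e => h (by
          have h' : br y (rep u)⁻¹ = 1 := by rw [hz, (Units.ext e : z = 1), map_one]
          rw [br_eq_one]
          exact ((Commute.inv_right_iff).1 (br_eq_one.1 h')).eq.symm)
        have h1 := trace_conj y ((((rep u)⁻¹ : GL (Fin n) F) : Matrix (Fin n) (Fin n) F) * M)
        rw [show (y : Matrix (Fin n) (Fin n) F) * ((((rep u)⁻¹ : GL (Fin n) F) : Matrix (Fin n) (Fin n) F) * M) *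
            ((y⁻¹ : GL (Fin n) F) : Matrix (Fin n) (Fin n) F) =
            ((y * (rep u)⁻¹ * y⁻¹ : GL (Fin n) F) : Matrix (Fin n) (Fin n) F) * M by
          rw [Units.val_mul, Units.val_mul, Matrix.mul_assoc, Matrix.mul_assoc,
            ← (Commute.units_inv_left (u := y) hM).eq]
          simp only [Matrix.mul_assoc],
          show y * (rep u)⁻¹ * y⁻¹ = sc z * (rep u)⁻¹ by rw [← hz, br, inv_mul_cancel_right],
          sc_mul_coe, smul_mul, Matrix.trace_smul, ← coef_apply, smul_eq_mul] at h1
        have h0 : coef K M u = 0 := (mul_eq_zero.1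
          (show ((z : F) - 1) * coef K M u = 0 by rw [sub_mul, one_mul, h1, sub_self])).resolve_left
            (sub_ne_zero.2 hz1)
        simp [h0]
      refine smul_right_injective _ (div_ne_zero hN (hK.natCast_ne_zero hn hN)) ?_
      calc ((Fintype.card (Cls K) : F) / (n : F)) • ((g : Matrix (Fin n) (Fin n) F) * M)
          = (g : Matrix (Fin n) (Fin n) F) * ((((Fintype.card (Cls K) : F) / (n : F))) • M) :=
            (Matrix.mul_smul _ _ _).symm
        _ = (g : Matrix (Fin n) (Fin n) F) * ∑ u, coef K M u • (rep u : Matrix (Fin n) (Fin n) F) := by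
            rw [hK.expand hn hN M]
        _ = (∑ u, coef K M u • (rep u : Matrix (Fin n) (Fin n) F)) * (g : Matrix (Fin n) (Fin n) F) := by
            rw [Finset.mul_sum, Finset.sum_mul]; exact Finset.sum_congr rfl fun u _ => hterm u
        _ = ((Fintype.card (Cls K) : F) / (n : F)) • (M * (g : Matrix (Fin n) (Fin n) F)) := by
            rw [← hK.expand hn hN M, smul_mul]
    have hWinv : ∀ M : Matrix (Fin n) (Fin n) F,
        (y : Matrix (Fin n) (Fin n) F) * M = M * (y : Matrix (Fin n) (Fin n) F) →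
        ∀ v ∈ W, M *ᵥ v ∈ W := by
      intro M hM v hv
      rw [hW, mem_eig] at hv ⊢
      rw [mulVec_mulVec, hcentral M hM, ← mulVec_mulVec, hv, mulVec_smul]
    -- an element of order `r` among the multiples of `y`
    obtain ⟨s, hs⟩ := hexp y hyK
    set y₀ := sc s * y with hy₀
    have hy₀K : y₀ ∈ K := mul_mem (hK.scal (sc_mem s)) hyK
    have hxy : br x y ≠ 1 := fun h => hxg (hcomm_g x hx h)
    obtain ⟨ζ, hζr, hζ⟩ := hK.br_eq hy₀K hx
    have hζ1 : ζ ≠ 1 := fun e => hxy (by
      rw [e, map_one, hy₀, hK.br_mul_left (hK.scal (sc_mem s)) hyK hx, br_eq_one.2 (sc_comm s x),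
        one_mul] at hζ
      rw [hK.br_swap, hζ, inv_one])
    have hzord : orderOf ζ = r := orderOf_eq_prime hζr hζ1
    have hx' : y₀ * x = sc ζ * (x * y₀) := by rw [← hζ, br]; group
    set Z : Matrix (Fin n) (Fin n) F := (y₀ : Matrix (Fin n) (Fin n) F) with hZ
    have hZr : Z ^ r = 1 := by rw [hZ, ← Units.val_pow_eq_pow_val, hs, Units.val_one]
    have hyZ : ∀ M, Z * M = M * Z →
        (y : Matrix (Fin n) (Fin n) F) * M = M * (y : Matrix (Fin n) (Fin n) F) := by
      intro M hM
      rw [hZ, hy₀, sc_mul_coe, smul_mul, Matrix.mul_smul] at hM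
      exact smul_right_injective _ s.ne_zero hM
    let e : Fin r → F := fun k => ((ζ ^ (k : ℕ) : Fˣ) : F)
    have he0 : ∀ k, e k ≠ 0 := fun k => Units.ne_zero _
    have her : ∀ k, e k ^ r = 1 := fun k => by
      show ((ζ ^ (k : ℕ) : Fˣ) : F) ^ r = 1
      rw [← Units.val_pow_eq_pow_val, pow_right_comm, hζr, one_pow, Units.val_one]
    let P : Fin r → Submodule F (Fin n → F) := fun k => eig y₀ (e k)
    let E : Fin r → Matrix (Fin n) (Fin n) F := fun k =>
      (r : F)⁻¹ • ∑ i ∈ Finset.range r, (e k)⁻¹ ^ i • Z ^ i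
    have hZE : ∀ k, Z * E k = e k • E k ∧ E k * Z = e k • E k := by
      intro k
      have hcom : E k * Z = Z * E k := by
        simp only [E, smul_mul_assoc, mul_smul_comm, Finset.sum_mul, Finset.mul_sum, ← pow_succ,
          ← pow_succ']
      refine ⟨?_, hcom.trans ?_⟩ <;>
      · simp only [E, mul_smul_comm, Finset.mul_sum, ← pow_succ']
        rw [smul_comm (e k)]
        congr 1
        set f : ℕ → Matrix (Fin n) (Fin n) F := fun i => (e k)⁻¹ ^ i • Z ^ i
        have h1 : ∀ i ∈ Finset.range r, (e k)⁻¹ ^ i • Z ^ (i + 1) = e k • f (i + 1) := by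
          intro i _
          simp only [f, smul_smul, pow_succ' (e k)⁻¹, ← mul_assoc, mul_inv_cancel₀ (he0 k), one_mul]
        rw [Finset.sum_congr rfl h1, ← Finset.smul_sum]
        congr 1
        have h2 := (Finset.sum_range_succ f r).symm.trans (Finset.sum_range_succ' f r)
        have h3 : f r = f 0 := by simp [f, hZr, inv_pow, her]
        rw [h3] at h2
        exact (add_right_cancel h2).symm
    have hEid : ∀ v : Fin n → F, ∑ k, E k *ᵥ v = v := by
      intro v
      have hkey : ∑ k, E k = (1 : Matrix (Fin n) (Fin n) F) := by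
        simp only [E, ← Finset.smul_sum]
        rw [Finset.sum_comm]
        rw [Finset.sum_eq_single 0]
        · simp [← Nat.cast_smul_eq_nsmul F, smul_smul, hr0]
        · intro i hi hi0
          rw [← Finset.sum_smul]
          have hne : ((ζ : F))⁻¹ ^ i ≠ 1 := by
            rw [inv_pow, inv_ne_one, ← Units.val_pow_eq_pow_val]
            intro h
            have := orderOf_dvd_of_pow_eq_one (Units.ext h : ζ ^ i = 1)
            rw [hzord] at this
            exact hi0 (Nat.eq_zero_of_dvd_of_lt this (Finset.mem_range.1 hi))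
          have hsum : ∑ k : Fin r, (e k)⁻¹ ^ i = 0 := by
            have h1 : ∀ k : Fin r, (e k)⁻¹ ^ i = (((ζ : F))⁻¹ ^ i) ^ (k : ℕ) := fun k => by
              simp only [e, Units.val_pow_eq_pow_val, ← inv_pow, ← pow_mul, mul_comm]
            rw [Finset.sum_congr rfl fun k _ => h1 k,
              Fin.sum_univ_eq_sum_range (fun k => (((ζ : F))⁻¹ ^ i) ^ k) r, geom_sum_eq hne,
              ← pow_mul, mul_comm, pow_mul, inv_pow, ← Units.val_pow_eq_pow_val, hζr]
            simp
          rw [hsum, zero_smul]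
        · intro h
          exact absurd (Finset.mem_range.2 hr.pos) h
      rw [← Matrix.sum_mulVec, hkey, one_mulVec]
    have hEP : ∀ k v, E k *ᵥ v ∈ P k := fun k v => mem_eig.2 (by
      rw [mulVec_mulVec, ← hZ, (hZE k).1, smul_mulVec])
    have hPE : ∀ k, ∀ v ∈ P k, E k *ᵥ v = v := by
      intro k v hv
      have hp : ∀ i : ℕ, Z ^ i *ᵥ v = e k ^ i • v := by
        intro i
        induction i with
        | zero => simp
        | succ i ih =>
          rw [pow_succ, ← mulVec_mulVec, hZ, mem_eig.1 hv, mulVec_smul, ← hZ, ih, smul_smul, pow_succ']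
      simp only [E, smul_mulVec, Matrix.sum_mulVec, hp, smul_smul, ← mul_pow, inv_mul_cancel₀ (he0 k),
        one_pow, one_smul, Finset.sum_const, Finset.card_range]
      rw [← Nat.cast_smul_eq_nsmul F, smul_smul, inv_mul_cancel₀ hr0, one_smul]
    let J : Finset (Fin r) := Finset.univ.filter fun k => P k ≤ W ∧ P k ≠ ⊥
    have hJ : ∀ k, ∀ v ∈ W, E k *ᵥ v ≠ 0 → k ∈ J := by
      intro k v hv hne
      refine Finset.mem_filter.2 ⟨Finset.mem_univ _, fun w' hw' => ?_, ?_⟩
      · obtain ⟨i, hi⟩ := Function.ne_iff.1 hne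
        set w := E k *ᵥ v
        have hcm : ∀ X, Z * (E k * X * E k) = E k * X * E k * Z := fun X => by
          rw [← Matrix.mul_assoc, ← Matrix.mul_assoc, (hZE k).1, Matrix.mul_assoc _ _ Z, (hZE k).2]
          generalize E k = A
          simp [Matrix.mul_assoc]
        have hwW : w ∈ W := hWinv _ (hyZ _ ((hZE k).1.trans (hZE k).2.symm)) v hv
        have hM := hWinv _ (hyZ _ (hcm (vecMulVec w' (Pi.single i (w i)⁻¹)))) w hwW
        rw [← mulVec_mulVec, ← mulVec_mulVec, hPE k w (hEP k v), vecMulVec_mulVec] at hM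
        simpa [single_dotProduct, inv_mul_cancel₀ (show w i ≠ 0 from hi), hPE k w' hw'] using hM
      · intro h
        have := hEP k v
        rw [h, Submodule.mem_bot] at this
        exact hne this
    have hWle : W ≤ J.sup P := by
      intro v hv
      rw [← hEid v]
      refine sum_mem fun k _ => ?_
      by_cases h : E k *ᵥ v = 0
      · rw [h]; exact zero_mem _
      · exact Finset.le_sup (f := P) (hJ k v hv h) (hEP k v)
    have hPd : ∀ k, r * Module.finrank F (P k) ≤ n := fun k => mul_finrank_eig_le hzord hx' (e k)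
    have hsup : ∀ J' : Finset (Fin r), r * Module.finrank F (J'.sup P : Submodule F (Fin n → F)) ≤ J'.card * n := by
      intro J'
      induction J' using Finset.induction with
      | empty => simp
      | insert k J' hk ih =>
        rw [Finset.sup_insert, Finset.card_insert_of_notMem hk]
        have h1 := Submodule.finrank_add_le_finrank_add_finrank (P k) (J'.sup P)
        have h2 := hPd k
        nlinarith
    have hWb : r * Module.finrank F W ≤ J.card * n :=
      (Nat.mul_le_mul_left r (Submodule.finrank_mono hWle)).trans (hsup J)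
    -- at most one pair of components per difference
    have hpairs : J.offDiag.card ≤ r - 1 := by
      haveI : NeZero r := ⟨hr.ne_zero⟩
      have hcard : (Finset.univ.erase (0 : Fin r)).card = r - 1 := by simp
      rw [← hcard]
      refine Finset.card_le_card_of_injOn (fun p => p.1 - p.2) ?_ ?_
      · rintro ⟨k, l⟩ hp
        simp only [Finset.mem_coe, Finset.mem_offDiag] at hp
        simpa [sub_eq_zero] using hp.2.2
      rintro ⟨k, l⟩ hp ⟨k', l'⟩ hq hd
      simp only [Finset.mem_coe, Finset.mem_offDiag] at hp hq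
      have hd' : k - l = k' - l' := hd
      set i := k - l with hi
      obtain ⟨t, ht⟩ := hK.exists_br_pow hx hyK (i : ℕ)
      have hi0 : (i : ℕ) ≠ 0 := fun h => hp.2.2 (sub_eq_zero.1 (Fin.ext h))
      have key : ∀ k l : Fin r, k ∈ J → l ∈ J → k - l = i →
          ((t * (s⁻¹) ^ (i : ℕ) * (ζ ^ (k : ℕ)) ^ (i : ℕ) : Fˣ) : F) = 1 := by
        intro k l hk hl hkl
        obtain ⟨v, hv, hv0⟩ := Submodule.exists_mem_ne_zero_of_ne_bot (Finset.mem_filter.1 hl).2.2
        have hpow : y₀ * x ^ (i : ℕ) = sc (ζ ^ (i : ℕ)) * (x ^ (i : ℕ) * y₀) := by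
          clear ht hi0 hkl
          generalize (i : ℕ) = j
          induction j with
          | zero => simp
          | succ j ih =>
            calc y₀ * x ^ (j + 1) = y₀ * x ^ j * x := by rw [pow_succ, ← mul_assoc]
              _ = sc (ζ ^ j) * x ^ j * (y₀ * x) := by rw [ih]; group
              _ = sc (ζ ^ j) * (x ^ j * sc ζ) * (x * y₀) := by rw [hx']; group
              _ = sc (ζ ^ j) * sc ζ * (x ^ j * x * y₀) := by rw [← sc_comm]; group
              _ = sc (ζ ^ (j + 1)) * (x ^ (j + 1) * y₀) := by rw [← map_mul, ← pow_succ, ← pow_succ]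
        have hvk := mulVec_mem_eig hpow hv
        have hek : ((ζ ^ (i : ℕ) : Fˣ) : F) * e l = e k := by
          show ((ζ ^ (i : ℕ) : Fˣ) : F) * ((ζ ^ (l : ℕ) : Fˣ) : F) = ((ζ ^ (k : ℕ) : Fˣ) : F)
          rw [← Units.val_mul, ← pow_add]
          congr 1
          rw [← pow_mod_orderOf, hzord, ← Fin.val_add, ← hkl, sub_add_cancel]
        rw [hek] at hvk
        have hfixed := br_mulVec_eq hc ((Finset.mem_filter.1 hl).2.1 hv) ((Finset.mem_filter.1 hk).2.1 hvk)
        set w := ((x ^ (i : ℕ) : GL (Fin n) F) : Matrix (Fin n) (Fin n) F) *ᵥ v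
        have hw0 : w ≠ 0 := fun h => hv0 ((mulVecEquiv (x ^ (i : ℕ))).map_eq_zero_iff.1 h)
        have hyy : y = sc s⁻¹ * y₀ := by
          rw [hy₀, ← mul_assoc, ← map_mul, inv_mul_cancel, map_one, one_mul]
        have hyi : br g x ^ (i : ℕ) = sc (s⁻¹ ^ (i : ℕ)) * y₀ ^ (i : ℕ) := by
          rw [map_pow, ← Commute.mul_pow (sc_comm s⁻¹ y₀), ← hyy]
        rw [ht, hyi, ← mul_assoc, ← map_mul, sc_mul_coe, Units.val_pow_eq_pow_val, smul_mulVec, ← hZ] at hfixed
        have hp : Z ^ (i : ℕ) *ᵥ w = (e k) ^ (i : ℕ) • w := by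
          clear hfixed ht hi0 hpow
          generalize (i : ℕ) = j
          induction j with
          | zero => simp
          | succ j ih =>
            rw [pow_succ, ← mulVec_mulVec, hZ, mem_eig.1 hvk, mulVec_smul, ← hZ, ih, smul_smul,
              pow_succ']
        rw [hp, smul_smul] at hfixed
        simp only [Units.val_mul, Units.val_pow_eq_pow_val] at hfixed ⊢
        exact smul_left_injective F hw0 (hfixed.trans (one_smul F w).symm)
      have h1 := key k l hp.1 hp.2.1 rfl
      have h2 := key k' l' hq.1 hq.2.1 hd'.symm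
      have h3 : (ζ ^ (k : ℕ)) ^ (i : ℕ) = (ζ ^ (k' : ℕ)) ^ (i : ℕ) :=
        mul_left_cancel (Units.ext (h1.trans h2.symm))
      rw [← pow_mul, ← pow_mul, pow_eq_pow_iff_modEq, hzord] at h3
      have hkk : k = k' := Fin.ext (Nat.ModEq.eq_of_lt_of_lt
        (Nat.ModEq.cancel_right_of_coprime ((hr.coprime_iff_not_dvd).2 fun h =>
          hi0 (Nat.eq_zero_of_dvd_of_lt h i.2)) h3) k.2 k'.2)
      subst hkk
      exact Prod.ext rfl (by simpa [hi] using hd')
    rw [Finset.offDiag_card] at hpairs
    by_contra hlt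
    have hj : r < 2 * J.card := by nlinarith
    have h2 : J.card * J.card ≤ r - 1 + J.card := by omega
    have h3 : r - 1 + 1 = r := Nat.succ_pred_eq_of_pos hr.pos
    nlinarith

end CfsgLib.ExtraEigen
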